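import Groth.Agent.Lib.GrTilde.Sections
import Groth.Agent.Lib.OX.Exact
import Groth.Agent.Lib.QCoh.GenericPoint

/-!
# Maps `M(n)~ → M'(n + c)~` induced by module maps of degree `c`, and exact sequences
-/

set_option autoImplicit false
set_option backward.isDefEq.respectTransparency false
universe u

open AlgebraicGeometry CategoryTheory TopologicalSpace Opposite

noncomputable section

namespace RegTilde27

open GrothLib.GrTilde GrothLib.InvExt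

section Local

variable {X : Scheme.{u}}

/-- A local criterion for short exactness. -/
theorem shortExact_of_local (S : ShortComplex X.Modules)
    (hinj : ∀ U : X.Opens, Function.Injective (S.f.app U))
    (hker : ∀ (U : X.Opens) (σ : Γ(S.X₂, U)), S.g.app U σ = 0 → ∀ y ∈ U, ∃ (W : X.Opens) (hWU : W ≤ U),
      y ∈ W ∧ ∃ τ : Γ(S.X₁, W), S.f.app W τ = mres S.X₂ hWU σ)
    (hsurj : ∀ (U : X.Opens) (σ : Γ(S.X₃, U)), ∀ y ∈ U, ∃ (W : X.Opens) (hWU : W ≤ U),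
      y ∈ W ∧ ∃ τ : Γ(S.X₂, W), S.g.app W τ = mres S.X₃ hWU σ) : S.ShortExact := by
  refine (GrothLib.OX.shortExact_iff _).2 fun x => ?_
  refine { exact := ?_, mono_f := ?_, epi_g := ?_ }
  · rw [ShortComplex.moduleCat_exact_iff]
    intro z hz
    obtain ⟨U, hxU, r, rfl⟩ := TopCat.Presheaf.exists_germ_eq S.X₂.presheaf (show S.X₂.presheaf.stalk x from z)
    replace hz : GrothLib.QCoh.stalkLin S.g x (S.X₂.presheaf.germ U x hxU r) = 0 := hz
    rw [GrothLib.QCoh.stalkLin_germ] at hz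
    obtain ⟨W, hxW, i₁, i₂, hW⟩ := TopCat.Presheaf.germ_eq S.X₃.presheaf x hxU hxU _ 0 (hz.trans (map_zero _).symm)
    have h0 : S.g.app W (mres S.X₂ i₁.le r) = 0 :=
      (GrothLib.Ample.app_mres S.g i₁.le r).trans (hW.trans (map_zero _))
    obtain ⟨V, hVW, hxV, τ, hτ⟩ := hker W _ h0 x hxW
    refine ⟨S.X₁.presheaf.germ V x hxV τ, ?_⟩
    show GrothLib.QCoh.stalkLin S.f x (S.X₁.presheaf.germ V x hxV τ) = _
    rw [GrothLib.QCoh.stalkLin_germ, hτ]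
    exact (TopCat.Presheaf.germ_res_apply _ _ _ _ _).trans (TopCat.Presheaf.germ_res_apply _ _ _ _ _)
  · rw [ModuleCat.mono_iff_injective]
    exact TopCat.Presheaf.stalkFunctor_map_injective_of_app_injective
      (f := (Scheme.Modules.toPresheaf X).map S.f) (fun U => hinj U) x
  · rw [ModuleCat.epi_iff_surjective]
    intro z
    obtain ⟨U, hxU, r, rfl⟩ := TopCat.Presheaf.exists_germ_eq S.X₃.presheaf (show S.X₃.presheaf.stalk x from z)
    obtain ⟨W, hWU, hxW, τ, hτ⟩ := hsurj U r x hxU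
    refine ⟨S.X₂.presheaf.germ W x hxW τ, ?_⟩
    show GrothLib.QCoh.stalkLin S.g x (S.X₂.presheaf.germ W x hxW τ) = _
    rw [GrothLib.QCoh.stalkLin_germ, hτ]
    exact TopCat.Presheaf.germ_res_apply _ _ _ _ _

end Local

section Map

variable {R A : Type u} [CommRing R] [CommRing A] [Algebra R A] {𝒜 : ℕ → Submodule R A} [GradedAlgebra 𝒜]
variable {M : Type u} [AddCommGroup M] [Module R M] [Module A M] {ℳ : ℕ → Submodule R M} [SetLike.GradedSMul 𝒜 ℳ]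
variable {M' : Type u} [AddCommGroup M'] [Module R M'] [Module A M'] {ℳ' : ℕ → Submodule R M'}
  [SetLike.GradedSMul 𝒜 ℳ']

/-- A linear map of degree `c` on families indexed by the natural numbers. -/
def IsShift (ℳ : ℕ → Submodule R M) (ℳ' : ℕ → Submodule R M') (f : M →ₗ[A] M') (c : ℤ) : Prop :=
  ∀ (i : ℕ) (m : M), m ∈ ℳ i → f m = 0 ∨ ∃ i' : ℕ, (i' : ℤ) = i + c ∧ f m ∈ ℳ' i'

variable (𝒜) in
/-- The map on stalks. -/
def locLin (f : M →ₗ[A] M') (x : ProjectiveSpectrum 𝒜) :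
    GrTilde.LocMod 𝒜 (M := M) x →ₗ[Localization x.asHomogeneousIdeal.toIdeal.primeCompl] GrTilde.LocMod 𝒜 (M := M') x :=
  LocalizedModule.map x.asHomogeneousIdeal.toIdeal.primeCompl f

theorem locLin_mk (f : M →ₗ[A] M') (x : ProjectiveSpectrum 𝒜) (m : M)
    (s : x.asHomogeneousIdeal.toIdeal.primeCompl) :
    locLin 𝒜 f x (LocalizedModule.mk m s) = LocalizedModule.mk (f m) s :=
  IsLocalizedModule.map_LocalizedModules _ f m s

variable {f : M →ₗ[A] M'} {c : ℤ} (hf : IsShift ℳ ℳ' f c) {n n' : ℤ} (h : n + c = n')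

include hf h

theorem locLin_mem {V : (Proj 𝒜).Opens} (σ : Γ(_root_.GrTilde.tilde 𝒜 ℳ n, V)) (y : V) :
    locLin 𝒜 f y.1 (evM y σ) ∈ _root_.GrTilde.tildeAt 𝒜 ℳ' n' y.1 := by
  obtain ⟨W, hy, iW, p, q, ⟨a, ha⟩, ⟨s, hs⟩, nin, hd, hval⟩ :=
    (show _root_.GrTilde.sect 𝒜 ℳ n (op V) from σ).2 y
  have he : evM y σ = LocalizedModule.mk a ⟨s, nin ⟨y.1, hy⟩⟩ := hval ⟨y.1, hy⟩
  rw [he, locLin_mk]
  rcases hd with hd | hd
  · rcases hf p a ha with h0 | ⟨p', hp', hm⟩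
    · rw [h0, LocalizedModule.zero_mk]; exact zero_mem _
    · exact Submodule.subset_span ⟨p', q, ⟨f a, hm⟩, ⟨s, hs⟩, nin ⟨y.1, hy⟩, by omega, rfl⟩
  · rw [show a = 0 from hd, map_zero, LocalizedModule.zero_mk]; exact zero_mem _

/-- The map on sections. -/
def mapSect {V : (Proj 𝒜).Opens} (σ : Γ(_root_.GrTilde.tilde 𝒜 ℳ n, V)) :
    Γ(_root_.GrTilde.tilde 𝒜 ℳ' n', V) :=
  ⟨fun y => ⟨locLin 𝒜 f y.1 (evM y σ), locLin_mem hf h σ y⟩, fun y => by
    obtain ⟨W, hy, iW, p, q, ⟨a, ha⟩, ⟨s, hs⟩, nin, hd, hval⟩ :=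
      (show _root_.GrTilde.sect 𝒜 ℳ n (op V) from σ).2 y
    have key : ∀ z : W, locLin 𝒜 f z.1 (evM ⟨z.1, leOfHom iW z.2⟩ σ) = LocalizedModule.mk (f a) ⟨s, nin z⟩ :=
      fun z => by rw [show evM ⟨z.1, leOfHom iW z.2⟩ σ = LocalizedModule.mk a ⟨s, nin z⟩ from hval z, locLin_mk]
    have hzero : f a = 0 → ∀ z : W, locLin 𝒜 f z.1 (evM ⟨z.1, leOfHom iW z.2⟩ σ) = LocalizedModule.mk 0 ⟨s, nin z⟩ :=
      fun h0 z => by rw [key z, h0]
    rcases hd with hd | hd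
    · rcases hf p a ha with h0 | ⟨p', hp', hm⟩
      · exact ⟨W, hy, iW, 0, q, ⟨0, zero_mem _⟩, ⟨s, hs⟩, nin, Or.inr rfl, fun z => hzero h0 z⟩
      · exact ⟨W, hy, iW, p', q, ⟨f a, hm⟩, ⟨s, hs⟩, nin, Or.inl (by omega), fun z => key z⟩
    · exact ⟨W, hy, iW, 0, q, ⟨0, zero_mem _⟩, ⟨s, hs⟩, nin, Or.inr rfl,
        fun z => hzero (by rw [show a = 0 from hd, map_zero]) z⟩⟩

theorem evM_mapSect {V : (Proj 𝒜).Opens} (σ : Γ(_root_.GrTilde.tilde 𝒜 ℳ n, V)) (y : V) :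
    evM y (mapSect hf h σ) = locLin 𝒜 f y.1 (evM y σ) := rfl

/-- The induced map of sheaves. -/
def map : _root_.GrTilde.tilde 𝒜 ℳ n ⟶ _root_.GrTilde.tilde 𝒜 ℳ' n' :=
  ⟨{
    app := fun V => ModuleCat.ofHom
      (X := ((_root_.GrTilde.tilde 𝒜 ℳ n).val.obj V : Type u))
      (Y := ((_root_.GrTilde.tilde 𝒜 ℳ' n').val.obj V : Type u))
      { toFun := fun (σ : Γ(_root_.GrTilde.tilde 𝒜 ℳ n, V.unop)) => mapSect hf h σ
        map_add' := fun σ σ' => evM_ext fun y => by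
          show locLin 𝒜 f y.1 (evM y (σ + σ')) = evM y (mapSect hf h σ + mapSect hf h σ')
          rw [evM_add, map_add, evM_add]; rfl
        map_smul' := fun (r : Γ(Proj 𝒜, V.unop)) (σ : Γ(_root_.GrTilde.tilde 𝒜 ℳ n, V.unop)) => evM_ext fun y => by
          show locLin 𝒜 f y.1 (evM y (r • σ)) = evM y (r • mapSect hf h σ)
          rw [evM_smul, map_smul, evM_smul]; rfl }
    naturality := fun {V W} g => by
      ext (σ : Γ(_root_.GrTilde.tilde 𝒜 ℳ n, V.unop))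
      exact evM_ext fun y => rfl }⟩

theorem map_app {V : (Proj 𝒜).Opens} (σ : Γ(_root_.GrTilde.tilde 𝒜 ℳ n, V)) :
    (map hf h).app V σ = mapSect hf h σ := rfl

theorem injective_app (hinj : Function.Injective f) (V : (Proj 𝒜).Opens) :
    Function.Injective ((map hf h).app V) := fun σ σ' e => evM_ext fun y => by
  have := congrArg (evM y) e
  rw [map_app hf h, map_app hf h, evM_mapSect, evM_mapSect] at this
  exact LocalizedModule.map_injective _ f hinj this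

omit hf h in
/-- Local preimages of homogeneous elements, up to homogeneous factors invertible at the point. -/
def Lifts (𝒜 : ℕ → Submodule R A) [GradedAlgebra 𝒜] (ℳ : ℕ → Submodule R M) (ℳ' : ℕ → Submodule R M')
    (f : M →ₗ[A] M') (c : ℤ) : Prop :=
  ∀ (y : ProjectiveSpectrum 𝒜) (i' : ℕ) (m' : M'), m' ∈ ℳ' i' → m' ∈ LinearMap.range f →
    ∃ (l : ℕ) (u : A) (i : ℕ) (m : M), u ∈ 𝒜 l ∧ u ∉ y.asHomogeneousIdeal ∧ m ∈ ℳ i ∧
      (i : ℤ) + c = l + i' ∧ f m = u • m'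

theorem exists_lift (hlift : Lifts 𝒜 ℳ ℳ' f c) {V : (Proj 𝒜).Opens} (σ : Γ(_root_.GrTilde.tilde 𝒜 ℳ' n', V))
    {y : Proj 𝒜} (hy : y ∈ V)
    (hrange : ∀ (p q : ℕ) (a : M') (s : A), a ∈ ℳ' p → s ∈ 𝒜 q → ∀ hs : s ∉ y.asHomogeneousIdeal,
      evM ⟨y, hy⟩ σ = LocalizedModule.mk a ⟨s, hs⟩ →
      ∃ (l : ℕ) (v : A), v ∈ 𝒜 l ∧ v ∉ y.asHomogeneousIdeal ∧ v • a ∈ LinearMap.range f) :
    ∃ (W : (Proj 𝒜).Opens) (hWV : W ≤ V), y ∈ W ∧
      ∃ τ : Γ(_root_.GrTilde.tilde 𝒜 ℳ n, W), (map hf h).app W τ = mres (_root_.GrTilde.tilde 𝒜 ℳ' n') hWV σ := by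
  obtain ⟨W, hyW, iW, p, q, ⟨a, ha⟩, ⟨s, hs⟩, nin, hd, hval⟩ :=
    (show _root_.GrTilde.sect 𝒜 ℳ' n' (op V) from σ).2 ⟨y, hy⟩
  replace hd : (p : ℤ) = q + n' ∨ a = 0 := hd
  rcases hd with hd | hd
  · obtain ⟨l, v, hv, hvy, hva⟩ := hrange p q a s ha hs (nin ⟨y, hyW⟩) (hval ⟨y, hyW⟩)
    obtain ⟨l', u, i, m, hu, huy, hm, hdeg, hfm⟩ :=
      hlift y (l + p) (v • a) (SetLike.GradedSMul.smul_mem hv ha) hva
    have hD : y ∈ W ⊓ Proj.basicOpen 𝒜 (u * v) :=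
      ⟨hyW, mem_basicOpen_mul.2 ⟨huy, hvy⟩⟩
    have nin' : ∀ z : (W ⊓ Proj.basicOpen 𝒜 (u * v) : (Proj 𝒜).Opens), u * v * s ∉ z.1.asHomogeneousIdeal :=
      fun z => mem_basicOpen_mul.2 ⟨z.2.2, nin ⟨z.1, z.2.1⟩⟩
    refine ⟨_, inf_le_left.trans (leOfHom iW), hD, fracM m (u * v * s) hm
      (SetLike.mul_mem_graded (SetLike.mul_mem_graded hu hv) hs) nin' (Or.inl (by push_cast at hdeg ⊢; omega)),
      evM_ext fun z => ?_⟩
    rw [map_app hf h, evM_mapSect, evM_fracM, locLin_mk, evM_mres,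
      show evM ⟨z.1, _⟩ σ = LocalizedModule.mk a ⟨s, nin ⟨z.1, z.2.1⟩⟩ from hval ⟨z.1, z.2.1⟩, hfm]
    refine LocalizedModule.mk_eq.2 ⟨1, ?_⟩
    simp only [one_smul, Submonoid.smul_def, smul_smul]
    congr 1
    ring
  · refine ⟨W, leOfHom iW, hyW, 0, evM_ext fun z => ?_⟩
    rw [map_zero, evM_zero, evM_mres, show evM ⟨z.1, _⟩ σ = LocalizedModule.mk a ⟨s, nin z⟩ from hval z, hd,
      LocalizedModule.zero_mk]

omit hf h in
variable (𝒜) in
/-- Annihilators of homogeneous elements may be tested on homogeneous components. -/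
def CompAnn (ℳ : ℕ → Submodule R M) : Prop :=
  ∀ (i : ℕ) (m : M), m ∈ ℳ i → ∀ a : A, a • m = 0 → ∀ l, GradedRing.proj 𝒜 l a • m = 0

omit hf h in
theorem exists_hom_ann (hann : CompAnn 𝒜 ℳ) (y : ProjectiveSpectrum 𝒜) {i : ℕ} {m : M} (hm : m ∈ ℳ i) {a : A}
    (ha : a ∉ y.asHomogeneousIdeal) (h0 : a • m = 0) :
    ∃ (l : ℕ) (v : A), v ∈ 𝒜 l ∧ v ∉ y.asHomogeneousIdeal ∧ v • m = 0 := by
  classical
  by_contra hcon
  simp only [not_exists, not_and] at hcon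
  refine ha ?_
  rw [← DirectSum.sum_support_decompose 𝒜 a]
  exact sum_mem fun l _ => by
    by_contra hl
    exact hcon l _ (SetLike.coe_mem _) hl (hann i m hm a h0 l)

end Map

section Exact

variable {R A : Type u} [CommRing R] [CommRing A] [Algebra R A] {𝒜 : ℕ → Submodule R A} [GradedAlgebra 𝒜]
variable {M : Type u} [AddCommGroup M] [Module R M] [Module A M] {ℳ : ℕ → Submodule R M} [SetLike.GradedSMul 𝒜 ℳ]
variable {M' : Type u} [AddCommGroup M'] [Module R M'] [Module A M'] {ℳ' : ℕ → Submodule R M'}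
  [SetLike.GradedSMul 𝒜 ℳ']
variable {M'' : Type u} [AddCommGroup M''] [Module R M''] [Module A M''] {ℳ'' : ℕ → Submodule R M''}
  [SetLike.GradedSMul 𝒜 ℳ'']
variable {f : M' →ₗ[A] M} {g : M →ₗ[A] M''} (hf : IsShift ℳ' ℳ f 0) (hg : IsShift ℳ ℳ'' g 0)
  {n : ℤ}

theorem map_comp_map_eq_zero (hfg : ∀ m, g (f m) = 0) :
    map (𝒜 := 𝒜) hf (add_zero n) ≫ map hg (add_zero n) = 0 := by
  refine Scheme.Modules.hom_ext _ _ fun V => ?_
  ext (σ : Γ(_root_.GrTilde.tilde 𝒜 ℳ' n, V))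
  refine evM_ext fun y => ?_
  show locLin 𝒜 g y.1 (locLin 𝒜 f y.1 (evM y σ)) = 0
  induction evM y σ using LocalizedModule.induction_on with
  | _ m s => rw [locLin_mk, locLin_mk, hfg, LocalizedModule.zero_mk]

theorem shortExact (hfg : ∀ m, g (f m) = 0) (hinj : Function.Injective f) (hex : ∀ m, g m = 0 → m ∈ LinearMap.range f)
    (hsurj : Function.Surjective g) (hliftf : Lifts 𝒜 ℳ' ℳ f 0) (hliftg : Lifts 𝒜 ℳ ℳ'' g 0)
    (hann : CompAnn 𝒜 ℳ'') :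
    (ShortComplex.mk (map (𝒜 := 𝒜) hf (add_zero n)) (map hg (add_zero n))
      (map_comp_map_eq_zero hf hg hfg)).ShortExact := by
  refine shortExact_of_local _ (injective_app hf (add_zero n) hinj) (fun U σ hσ y hy => ?_) fun U σ y hy => ?_
  · refine exists_lift hf (add_zero n) hliftf σ hy fun p q a s ha hs hsy he => ?_
    have h0 := congrArg (evM (⟨y, hy⟩ : U)) hσ
    rw [map_app hg (add_zero n), evM_mapSect, he, locLin_mk, evM_zero,
      ← LocalizedModule.zero_mk (1 : y.asHomogeneousIdeal.toIdeal.primeCompl)] at h0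
    obtain ⟨⟨b, hb⟩, hb'⟩ := LocalizedModule.mk_eq.1 h0
    simp only [one_smul, smul_zero, Submonoid.smul_def] at hb'
    rcases hg p a ha with h1 | ⟨p', -, hm⟩
    · exact ⟨0, 1, SetLike.GradedOne.one_mem, fun h1' => y.isPrime.ne_top ((Ideal.eq_top_iff_one _).2 h1'),
        by rw [one_smul]; exact hex a h1⟩
    · obtain ⟨l, v, hv, hvy, hv0⟩ := exists_hom_ann hann y hm hb hb'
      exact ⟨l, v, hv, hvy, hex _ (by rw [map_smul, hv0])⟩
  · exact exists_lift hg (add_zero n) hliftg σ hy fun p q a s _ _ _ _ =>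
      ⟨0, 1, SetLike.GradedOne.one_mem, fun h1' => y.isPrime.ne_top ((Ideal.eq_top_iff_one _).2 h1'),
        hsurj _⟩

theorem isIso_map {c : ℤ} {f : M →ₗ[A] M'} (hf : IsShift ℳ ℳ' f c) {n n' : ℤ} (h : n + c = n')
    (hinj : Function.Injective f) (hlift : Lifts 𝒜 ℳ ℳ' f c)
    (hrange : ∀ (y : ProjectiveSpectrum 𝒜) (p : ℕ) (a : M'), a ∈ ℳ' p →
      ∃ (l : ℕ) (v : A), v ∈ 𝒜 l ∧ v ∉ y.asHomogeneousIdeal ∧ v • a ∈ LinearMap.range f) :
    IsIso (map (𝒜 := 𝒜) hf h) := by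
  have hi := injective_app (𝒜 := 𝒜) hf h hinj
  rw [GrothLib.OX.isIso_iff]
  intro x
  rw [ConcreteCategory.isIso_iff_bijective]
  refine ⟨TopCat.Presheaf.stalkFunctor_map_injective_of_app_injective
    (f := (Scheme.Modules.toPresheaf _).map (map hf h)) (fun U => hi U) x, fun z => ?_⟩
  obtain ⟨U, hxU, r, rfl⟩ := TopCat.Presheaf.exists_germ_eq (_root_.GrTilde.tilde 𝒜 ℳ' n').presheaf
    (show (_root_.GrTilde.tilde 𝒜 ℳ' n').presheaf.stalk x from z)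
  obtain ⟨W, hWU, hxW, τ, hτ⟩ := exists_lift hf h hlift r hxU fun p _ a _ ha _ _ _ => hrange x p a ha
  refine ⟨(_root_.GrTilde.tilde 𝒜 ℳ n).presheaf.germ W x hxW τ, ?_⟩
  show GrothLib.QCoh.stalkLin (map hf h) x _ = _
  rw [GrothLib.QCoh.stalkLin_germ, hτ]
  exact TopCat.Presheaf.germ_res_apply _ _ _ _ _

end Exact

end RegTilde27
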