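import Groth.Agent.Lib.RegTilde27.Basic
import Groth.Agent.Lib.GrSyz.Basic
import Groth.Agent.Lib.GrSyz.Length
import Groth.Agent.Lib.CMReg.Sequences
import Groth.Agent.Lib.CMReg.StructureMain
import Groth.Agent.Lib.CMReg.Complex
import Groth.Prelude.Def_GrMod2

/-!
# `M~` for free modules and their graded submodules on projective space
-/

set_option autoImplicit false
set_option backward.isDefEq.respectTransparency false
universe u

open AlgebraicGeometry CategoryTheory CategoryTheory.Limits MvPolynomial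

noncomputable section

namespace RegTilde27

variable {k : Type u} [Field k] {r : ℕ}

/-- The polynomial ring. -/
abbrev Pol (k : Type u) [Field k] (r : ℕ) : Type u := MvPolynomial (Fin (r + 1)) k

theorem mem_stdGr_natCast {i : ℕ} {a : Pol k r} :
    a ∈ GrSyz.stdGr k (Fin (r + 1)) (i : ℤ) ↔ a ∈ CohB1.polyGrading r k i := by
  rw [GrSyz.mem_stdGr_iff]
  refine forall_congr' fun d => imp_congr_right fun _ => ?_
  rw [GrothLib.GrSyz.weight_one, Finsupp.degree_eq_weight_one]
  exact Nat.cast_inj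

/-- The pieces of nonnegative degree. -/
def natFam {M : Type u} [AddCommGroup M] [Module k M] (ℳ : ℤ → Submodule k M) : ℕ → Submodule k M := fun i => ℳ (i : ℤ)

theorem gradedSMul_natFam {M : Type u} [AddCommGroup M] [Module k M] [Module (Pol k r) M] (ℳ : ℤ → Submodule k M)
    (h : ∀ (i j : ℤ) (a : Pol k r) (m : M), a ∈ GrSyz.stdGr k (Fin (r + 1)) i → m ∈ ℳ j → a • m ∈ ℳ (i + j)) :
    SetLike.GradedSMul (CohB1.polyGrading r k) (natFam ℳ) :=
  ⟨fun {i j a m} ha hm => by
    show a • m ∈ ℳ ((i + j : ℕ) : ℤ)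
    rw [Nat.cast_add]
    exact h i j a m (mem_stdGr_natCast.2 ha) hm⟩

/-- The grading of a free module with basis degrees `deg`. -/
def fam {b : ℕ} (deg : Fin b → ℤ) (g : ℤ) : Submodule k (Fin b → Pol k r) :=
  Submodule.pi Set.univ fun j => GrSyz.stdGr k (Fin (r + 1)) (g - deg j)

theorem mem_fam {b : ℕ} {deg : Fin b → ℤ} {g : ℤ} {v : Fin b → Pol k r} :
    v ∈ fam deg g ↔ GrothLib.GrSyz.FreeHom deg g v := by
  simp [fam, Submodule.mem_pi, GrothLib.GrSyz.FreeHom]

theorem smul_mem_fam {b : ℕ} {deg : Fin b → ℤ} (i j : ℤ) (a : Pol k r) (v : Fin b → Pol k r)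
    (ha : a ∈ GrSyz.stdGr k (Fin (r + 1)) i) (hv : v ∈ fam deg j) : a • v ∈ fam deg (i + j) :=
  mem_fam.2 fun l => by
    rw [Pi.smul_apply, smul_eq_mul, show i + j - deg l = i + (j - deg l) by ring]
    exact SetLike.mul_mem_graded ha (mem_fam.1 hv l)

instance {b : ℕ} (deg : Fin b → ℤ) : SetLike.GradedSMul (CohB1.polyGrading r k) (natFam (fam (k := k) (r := r) deg)) :=
  gradedSMul_natFam _ smul_mem_fam

/-- The grading of a submodule of a free module. -/
def subFam {b : ℕ} (deg : Fin b → ℤ) (P : Submodule (Pol k r) (Fin b → Pol k r)) (g : ℤ) : Submodule k P :=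
  (fam deg g).comap (P.subtype.restrictScalars k)

instance {b : ℕ} (deg : Fin b → ℤ) (P : Submodule (Pol k r) (Fin b → Pol k r)) :
    SetLike.GradedSMul (CohB1.polyGrading r k) (natFam (subFam deg P)) :=
  gradedSMul_natFam _ fun i j a v ha hv => smul_mem_fam (deg := deg) i j a v.1 ha hv

theorem compAnn_fam {b : ℕ} (deg : Fin b → ℤ) : CompAnn (CohB1.polyGrading r k) (natFam (fam (k := k) (r := r) deg)) := by
  intro i v _ a h l
  rcases eq_or_ne a 0 with rfl | ha
  · rw [map_zero, zero_smul]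
  · have hv : v = 0 := funext fun j => by
      have := congrFun h j
      rw [Pi.smul_apply, smul_eq_mul, Pi.zero_apply] at this
      exact (mul_eq_zero.1 this).resolve_left ha
    rw [hv, smul_zero]

theorem compAnn_subFam {b : ℕ} (deg : Fin b → ℤ) (P : Submodule (Pol k r) (Fin b → Pol k r)) :
    CompAnn (CohB1.polyGrading r k) (natFam (subFam deg P)) := by
  intro i v hv a h l
  exact Subtype.ext (compAnn_fam deg i v.1 hv a (congrArg Subtype.val h) l)

theorem one_notMem (y : ProjectiveSpectrum (CohB1.polyGrading r k)) : (1 : Pol k r) ∉ y.asHomogeneousIdeal :=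
  fun h => y.isPrime.ne_top ((Ideal.eq_top_iff_one _).2 h)

theorem lifts_of_forall {M M' : Type u} [AddCommGroup M] [Module k M] [Module (Pol k r) M] [AddCommGroup M']
    [Module k M'] [Module (Pol k r) M'] {ℳ : ℕ → Submodule k M} {ℳ' : ℕ → Submodule k M'} {f : M →ₗ[Pol k r] M'}
    (h : ∀ i m', m' ∈ ℳ' i → m' ∈ LinearMap.range f → ∃ m ∈ ℳ i, f m = m') :
    Lifts (CohB1.polyGrading r k) ℳ ℳ' f 0 := by
  intro y i m' hm' hr
  obtain ⟨m, hm, rfl⟩ := h i m' hm' hr
  exact ⟨0, 1, i, m, SetLike.GradedOne.one_mem, one_notMem y, hm, by simp, by rw [one_smul]⟩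

theorem isShift_of_forall {M M' : Type u} [AddCommGroup M] [Module k M] [Module (Pol k r) M] [AddCommGroup M']
    [Module k M'] [Module (Pol k r) M'] {ℳ : ℕ → Submodule k M} {ℳ' : ℕ → Submodule k M'} {f : M →ₗ[Pol k r] M'}
    (h : ∀ i m, m ∈ ℳ i → f m ∈ ℳ' i) : IsShift ℳ ℳ' f 0 :=
  fun i m hm => Or.inr ⟨i, by simp, h i m hm⟩

/-- The abbreviation for `M~`. -/
abbrev til {M : Type u} [AddCommGroup M] [Module k M] [Module (Pol k r) M] (ℳ : ℕ → Submodule k M)
    [SetLike.GradedSMul (CohB1.polyGrading r k) ℳ] : (CohB1.ProjSpace r k).Modules :=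
  _root_.GrTilde.tilde (CohB1.polyGrading r k) ℳ 0

theorem isZero_tilde {M : Type u} [AddCommGroup M] [Module k M] [Module (Pol k r) M] [Subsingleton M]
    (ℳ : ℕ → Submodule k M) [SetLike.GradedSMul (CohB1.polyGrading r k) ℳ] : IsZero (til (r := r) ℳ) := by
  rw [IsZero.iff_id_eq_zero]
  refine Scheme.Modules.hom_ext _ _ fun V => ?_
  ext σ
  refine GrothLib.GrTilde.evM_ext fun y => ?_
  have : ∀ q : _root_.GrTilde.LocMod (CohB1.polyGrading r k) (M := M) y.1, q = 0 := fun q => by
    induction q using LocalizedModule.induction_on with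
    | _ m s => rw [Subsingleton.elim m 0, LocalizedModule.zero_mk]
  exact (this _).trans (this _).symm

theorem subsingleton_Ft_tilde_of_subsingleton {M : Type u} [AddCommGroup M] [Module k M] [Module (Pol k r) M]
    [Subsingleton M] (ℳ : ℕ → Submodule k M) [SetLike.GradedSMul (CohB1.polyGrading r k) ℳ] (t : ℤ) (i : ℕ) :
    Subsingleton (Coh.HH (CohB1.ProjSpace r k) (GrothLib.CMReg.Ft (til (r := r) ℳ) t) i) :=
  GrothLib.CMReg.subsingleton_Ft_of_isZero (isZero_tilde ℳ) t i

/-- A one dimensional free module is a twist. -/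
theorem nonempty_rankOne_iso (deg : Fin 1 → ℤ) :
    Nonempty (til (natFam (fam (k := k) (r := r) deg)) ≅ Twist.twistProjSpace r k (-deg 0)) := by
  let f : (Fin 1 → Pol k r) →ₗ[Pol k r] Pol k r := LinearMap.proj 0
  have hf : IsShift (natFam (fam (k := k) (r := r) deg)) (CohB1.polyGrading r k) f (-deg 0) := by
    intro i v hv
    have h := (mem_fam.1 hv) 0
    rcases lt_or_ge ((i : ℤ) - deg 0) 0 with hlt | hge
    · exact Or.inl (GrothLib.GrSyz.eq_zero_of_mem_neg hlt h)
    · refine Or.inr ⟨((i : ℤ) - deg 0).toNat, by rw [Int.toNat_of_nonneg hge]; ring, mem_stdGr_natCast.1 ?_⟩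
      rw [Int.toNat_of_nonneg hge]
      exact h
  have hinj : Function.Injective f := fun v w h => funext fun j => by fin_cases j; exact h
  have hlift : Lifts (CohB1.polyGrading r k) (natFam (fam (k := k) (r := r) deg)) (CohB1.polyGrading r k) f (-deg 0) := by
    intro y i' m' hm' _
    obtain ⟨x, hx, hxy⟩ := GrothLib.CMReg.h1 (n := r) (k := k) y
    refine ⟨(-deg 0).toNat, x ^ (-deg 0).toNat, ((((-deg 0).toNat : ℤ) + i') + deg 0).toNat,
      fun _ => x ^ (-deg 0).toNat * m', ?_, fun h => hxy (y.isPrime.mem_of_pow_mem _ h), ?_, ?_, rfl⟩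
    · simpa [smul_eq_mul] using SetLike.pow_mem_graded (-deg 0).toNat hx
    · refine mem_fam.2 fun j => ?_
      fin_cases j
      show x ^ (-deg 0).toNat * m' ∈ GrSyz.stdGr k (Fin (r + 1))
        ((((((-deg 0).toNat : ℤ) + i') + deg 0).toNat : ℕ) - deg 0)
      rw [Int.toNat_of_nonneg (by omega), add_sub_cancel_right, ← Nat.cast_add, mem_stdGr_natCast]
      exact SetLike.mul_mem_graded (by simpa [smul_eq_mul] using SetLike.pow_mem_graded (-deg 0).toNat hx) hm'
    · rw [Int.toNat_of_nonneg (by omega)]; ring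
  haveI := isIso_map hf (zero_add (-deg 0)) hinj hlift fun y p a _ =>
    ⟨0, 1, SetLike.GradedOne.one_mem, one_notMem y, fun _ => a, by simp [f]⟩
  exact ⟨asIso (map hf (zero_add (-deg 0)))⟩

/-- Vanishing of cohomology of twisted free modules. -/
theorem subsingleton_free : ∀ (b : ℕ) (deg : Fin b → ℤ) (t : ℤ) (i : ℕ), 1 ≤ i → (∀ j, -(i : ℤ) ≤ t - deg j) →
    Subsingleton (Coh.HH (CohB1.ProjSpace r k) (GrothLib.CMReg.Ft (til (natFam (fam (k := k) (r := r) deg))) t) i) := by
  intro b
  induction b with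
  | zero => intro deg t i _ _; exact subsingleton_Ft_tilde_of_subsingleton _ t i
  | succ b ih =>
    intro deg t i hi hdeg
    let f : (Fin b → Pol k r) →ₗ[Pol k r] (Fin (b + 1) → Pol k r) :=
      { toFun := fun v => Fin.cons 0 v
        map_add' := fun v w => funext fun j => by refine Fin.cases ?_ (fun l => ?_) j <;> simp
        map_smul' := fun c v => funext fun j => by refine Fin.cases ?_ (fun l => ?_) j <;> simp }
    let g : (Fin (b + 1) → Pol k r) →ₗ[Pol k r] (Fin 1 → Pol k r) := LinearMap.pi fun _ => LinearMap.proj 0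
    have hf : IsShift (natFam (fam (k := k) (r := r) (deg ∘ Fin.succ))) (natFam (fam deg)) f 0 :=
      isShift_of_forall fun j v hv => mem_fam.2 fun l => by
        refine Fin.cases ?_ (fun l => ?_) l
        · exact zero_mem _
        · exact (mem_fam.1 hv) l
    have hg : IsShift (natFam (fam (k := k) (r := r) deg)) (natFam (fam fun _ : Fin 1 => deg 0)) g 0 :=
      isShift_of_forall fun j v hv => mem_fam.2 fun _ => (mem_fam.1 hv) 0
    have hS := shortExact (𝒜 := CohB1.polyGrading r k) hf hg (n := 0) (fun v => funext fun _ => rfl)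
      (fun v w h => funext fun l => by
        have := congrFun h l.succ
        simpa [f] using this)
      (fun v h => ⟨fun l => v l.succ, funext fun l => by
        refine Fin.cases ?_ (fun l => ?_) l
        · have := congrFun h 0
          simpa [f, g] using this.symm
        · simp [f]⟩)
      (fun w => ⟨Fin.cons (w 0) 0, funext fun l => by fin_cases l; simp [g]⟩)
      (lifts_of_forall fun j v hv ⟨w, hw⟩ => ⟨w, mem_fam.2 fun l => by
        have h1 := (mem_fam.1 hv) l.succ
        rw [← hw] at h1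
        exact h1, hw⟩)
      (lifts_of_forall fun j w hw _ => ⟨Fin.cons (w 0) 0, mem_fam.2 fun l => by
        refine Fin.cases ?_ (fun l => ?_) l
        · exact (mem_fam.1 hw) 0
        · exact zero_mem _, funext fun l => by fin_cases l; simp [g]⟩)
      (compAnn_fam _)
    refine GrothLib.CMReg.sub_X₂ hS (ih (deg ∘ Fin.succ) t i hi fun j => hdeg j.succ) ?_
    obtain ⟨e⟩ := nonempty_rankOne_iso (k := k) (r := r) (fun _ : Fin 1 => deg 0)
    obtain ⟨e2⟩ := GrothLib.CMReg.nonempty_twist_add (n := r) (k := k) (a := -deg 0) (b := t) (c := t - deg 0) (by ring)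
    exact GrothLib.CMReg.subsingleton_of_iso
      (GrothLib.Ample.LineData.tensorModMapIso e (Iso.refl (Twist.twistProjSpace r k t)) ≪≫ e2).symm
      (GrothLib.CMReg.subsingleton_HH_twist r hi (hdeg 0))

/-- Vanishing for the syzygy modules, the resolved module, and so regularity. -/
theorem subsingleton_module {M : Type u} [AddCommGroup M] [Module k M] [Module (Pol k r) M]
    [IsScalarTower k (Pol k r) M]
    (ℳ : ℤ → Submodule k M) [DirectSum.Decomposition ℳ] [SetLike.GradedSMul (GrSyz.stdGr k (Fin (r + 1))) ℳ]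
    [SetLike.GradedSMul (CohB1.polyGrading r k) (fun n : ℕ => ℳ (n : ℤ))]
    (F : GrSyz.FreeRes (GrSyz.stdGr k (Fin (r + 1))) ℳ)
    (hF : F.IsMinimal (GrSyz.irrel (GrSyz.stdGr k (Fin (r + 1)))).toIdeal) (d : ℤ) (hd : F.IsGenLE d)
    (q : ℕ) (hq : 1 ≤ q) (t : ℤ) (ht : d - q ≤ t) :
    Subsingleton (Coh.HH (CohB1.ProjSpace r k)
      (GrothLib.CMReg.Ft (til (r := r) (fun n : ℕ => ℳ (n : ℤ))) t) q) := by
  have hrk : ∀ j, r + 1 < j → F.rk j = 0 := GrothLib.GrSyz.rk_eq_zero (r + 1) F.rk F.d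
    (fun i a b => GrothLib.GrSyz.mem_irrel.1 (hF i a b)) F.exact_succ
  have hpre : ∀ (i : ℕ) (j : ℕ) (v : Fin (F.rk i) → Pol k r), v ∈ natFam (fam (F.deg i)) j →
      v ∈ LinearMap.range (F.dLin i) → ∃ w ∈ natFam (fam (F.deg (i + 1))) j, F.dLin i w = v := by
    rintro i j _ hv ⟨w, rfl⟩
    refine ⟨GrothLib.GrSyz.fc (F.deg (i + 1)) j w, mem_fam.2 (GrothLib.GrSyz.freeHom_fc _ _ _), ?_⟩
    show (F.d i).mulVec _ = (F.d i).mulVec w
    rw [← GrothLib.GrSyz.fc_mulVec _ (F.d_mem i)]
    exact GrothLib.GrSyz.fc_of_freeHom _ (mem_fam.1 hv)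
  have hsyz : ∀ (m : ℕ) (i : ℕ) (P : Submodule (Pol k r) (Fin (F.rk i) → Pol k r)),
      r + 2 ≤ i + m → P = LinearMap.range (F.dLin i) → ∀ (q : ℕ), 1 ≤ q → ∀ t : ℤ, d + i + 1 - q ≤ t →
      Subsingleton (Coh.HH (CohB1.ProjSpace r k) (GrothLib.CMReg.Ft (til (natFam (subFam (F.deg i) P))) t) q) := by
    intro m
    induction m with
    | zero =>
      intro i P him hP q hq t ht
      haveI : Subsingleton (Fin (F.rk i) → Pol k r) := by
        haveI : IsEmpty (Fin (F.rk i)) := by rw [hrk i (by omega)]; infer_instance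
        infer_instance
      exact subsingleton_Ft_tilde_of_subsingleton _ t q
    | succ m ih =>
      intro i P him hP q hq t ht
      subst hP
      let P' := LinearMap.range (F.dLin (i + 1))
      let g := (F.dLin i).rangeRestrict
      have hf : IsShift (natFam (subFam (F.deg (i + 1)) P')) (natFam (fam (F.deg (i + 1)))) P'.subtype 0 :=
        isShift_of_forall fun j v hv => hv
      have hg : IsShift (natFam (fam (F.deg (i + 1)))) (natFam (subFam (F.deg i) (LinearMap.range (F.dLin i)))) g 0 :=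
        isShift_of_forall fun j v hv => mem_fam.2 (GrothLib.GrSyz.freeHom_mulVec _ (F.d_mem i) (mem_fam.1 hv))
      have hS := shortExact (𝒜 := CohB1.polyGrading r k) hf hg (n := 0)
        (fun v => Subtype.ext (LinearMap.mem_ker.1 (((F.exact_succ i).ge) v.2)))
        Subtype.val_injective
        (fun v hv => ⟨⟨v, (F.exact_succ i).le (LinearMap.mem_ker.2 (congrArg Subtype.val hv))⟩, rfl⟩)
        (F.dLin i).surjective_rangeRestrict
        (lifts_of_forall fun j v hv ⟨w, hw⟩ => ⟨w, (by subst hw; exact hv), hw⟩)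
        (lifts_of_forall fun j v hv _ => by
          obtain ⟨w, hw, hwv⟩ := hpre i j v.1 hv v.2
          exact ⟨w, hw, Subtype.ext hwv⟩)
        (compAnn_subFam _ _)
      refine GrothLib.CMReg.sub_X₃ hS (subsingleton_free _ _ t q hq fun b => ?_)
        (ih (i + 1) P' (by omega) rfl (q + 1) (by omega) t (by push_cast; omega))
      have := hd (i + 1) b
      push_cast at this
      omega
  let P0 := LinearMap.range (F.dLin 0)
  have hmap : ∀ (j : ℕ) v, v ∈ natFam (fam (F.deg 0)) j → F.augLin v ∈ ℳ (j : ℤ) := by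
    intro j v hv
    rw [← GrothLib.GrSyz.fc_of_freeHom _ (mem_fam.1 hv)]
    have := GrothLib.GrSyz.mc_linearCombination ℳ F.aug_mem (j : ℤ) v
    refine Eq.mp (congrArg (· ∈ ℳ (j : ℤ)) this) ?_
    exact SetLike.coe_mem _
  have hf : IsShift (natFam (subFam (F.deg 0) P0)) (natFam (fam (F.deg 0))) P0.subtype 0 :=
    isShift_of_forall fun j v hv => hv
  have hg : IsShift (natFam (fam (F.deg 0))) (fun n : ℕ => ℳ (n : ℤ)) F.augLin 0 := isShift_of_forall hmap
  have hann : CompAnn (CohB1.polyGrading r k) (fun n : ℕ => ℳ (n : ℤ)) := by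
    intro i y hy a ha l
    have e : GradedRing.proj (CohB1.polyGrading r k) l a = GrothLib.GrSyz.pr (l : ℤ) a := by
      refine DirectSum.Decomposition.inductionOn (CohB1.polyGrading r k)
        (motive := fun a => GradedRing.proj (CohB1.polyGrading r k) l a = GrothLib.GrSyz.pr (l : ℤ) a)
        (by simp) (fun {j} x => ?_) (fun x y hx hy => by rw [map_add, map_add, hx, hy]) a
      rcases eq_or_ne j l with rfl | hne
      · rw [GradedRing.proj_apply, DirectSum.decompose_of_mem_same _ x.2,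
          GrothLib.GrSyz.pr_of_mem (mem_stdGr_natCast.2 x.2)]
      · rw [GradedRing.proj_apply, DirectSum.decompose_of_mem_ne _ x.2 hne,
          GrothLib.GrSyz.pr_of_mem_ne (mem_stdGr_natCast.2 x.2) (by exact_mod_cast hne)]
    have h1 := GrothLib.GrSyz.mc_smul ℳ (g := (l : ℤ) + i) a hy
    rw [ha, map_zero, add_sub_cancel_right] at h1
    rw [e, ← h1]
  have hS := shortExact (𝒜 := CohB1.polyGrading r k) hf hg (n := 0)
    (fun v => LinearMap.mem_ker.1 (F.exact_zero.ge v.2))
    Subtype.val_injective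
    (fun v hv => ⟨⟨v, F.exact_zero.le (LinearMap.mem_ker.2 hv)⟩, rfl⟩)
    F.aug_surjective
    (lifts_of_forall fun j v hv ⟨w, hw⟩ => ⟨w, (by subst hw; exact hv), hw⟩)
    (lifts_of_forall fun j m hm _ => by
      obtain ⟨w, rfl⟩ := F.aug_surjective m
      refine ⟨GrothLib.GrSyz.fc (F.deg 0) j w, mem_fam.2 (GrothLib.GrSyz.freeHom_fc _ _ _), ?_⟩
      refine Eq.trans ?_ (GrothLib.GrSyz.mc_of_mem ℳ hm)
      exact (GrothLib.GrSyz.mc_linearCombination ℳ F.aug_mem (j : ℤ) w).symm)
    hann
  refine GrothLib.CMReg.sub_X₃ hS (subsingleton_free _ _ t q hq fun b => ?_)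
    (hsyz (r + 2) 0 P0 (by omega) rfl (q + 1) (by omega) t (by push_cast; omega))
  have := hd 0 b
  push_cast at this
  omega

end RegTilde27
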